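import Cfsg.Agent.TypeM.CoverTools
import Cfsg.Agent.TypeM.Two
import Cfsg.Agent.SignalizersComponents.Components
import Cfsg.Agent.Lib.Cores
import Cfsg.Prelude.Def_SevenCases
import Cfsg.Agent.Prune
set_option linter.all false
prune_inst 0x7f00000000000000000000000000000000000000000000000000000000000000000000000000000000000000000000000000000000000000000000000000000000000000000000000000000000000000003fffffffffffffffffffffffffffbeffbdffffffff
open scoped Cfsg.Agent.FastGrp

/-!
# A centraliser of an involution isomorphic to a double cover `2.A_n`, `7 ≤ n ≤ 11`, is a `B₂`-group (helper89)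
-/

set_option autoImplicit false

namespace Cfsg.Agent.SevenLow.DoubleCover

open Cfsg Subgroup Cfsg.Agent.TypeM.Two Cfsg.Agent.TypeM.CoverTools Cfsg.Agent.SporRec.TwoAn

universe u

theorem quasisimple_of_cover {n : ℕ} (hn : 5 ≤ n) {C : Type*} [Group C] (K : Cover (Fin n) C) :
    IsQuasisimple C := by
  obtain ⟨-, ⟨e⟩, -⟩ := isNonsplit_of_cover K (by omega)
  have hn' : 5 ≤ Nat.card (Fin n) := by rw [Nat.card_eq_fintype_card, Fintype.card_fin]; exact hn
  have hs : IsSimpleGroup (alternatingGroup (Fin n)) := alternatingGroup.isSimpleGroup hn'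
  refine ⟨⟨?_⟩, (MulEquiv.isSimpleGroup_congr e).2 hs⟩
  obtain ⟨π, hπ, hπK⟩ := exists_isCover_of K (by omega)
  have h1 : (commutator C).map π = ⊤ := by
    have h2 := map_commutator (⊤ : Subgroup C) ⊤ π
    rw [← commutator_def, Subgroup.map_top_of_surjective π hπ.surj, ← commutator_def,
      _root_.commutator_alternatingGroup_eq_top hn'] at h2
    exact h2
  rw [eq_top_iff]
  intro x _
  have h3 : π x ∈ (commutator C).map π := h1 ▸ mem_top _
  obtain ⟨y, hy, hyx⟩ := h3
  have h4 : K.π x = K.π y := by rw [← hπK, ← hπK, hyx]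
  rcases K.lift_eq h4 with h5 | h5
  · rw [h5]; exact hy
  · rw [h5]
    exact mul_mem hy (K.z_mem_commutator (by rw [Fintype.card_fin]; omega))

/-- the third kind of `B₂`-groups -/
theorem inBTwo_of_cover {n : ℕ} (hn : 7 ≤ n) (hn' : n ≤ 11) {C X : Type*} [Group C] [Group X]
    (K : Cover (Fin n) C) (e : C ≃* X) : InBTwo X := by
  have hq : IsQuasisimple C := quasisimple_of_cover (by omega) K
  obtain ⟨hc, ⟨f⟩, -⟩ := isNonsplit_of_cover K (by omega)
  have hcen : (center C).map e.toMonoidHom = center X := by
    ext x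
    rw [mem_center_iff]
    constructor
    · rintro ⟨y, hy, rfl⟩ g
      obtain ⟨g, rfl⟩ := e.surjective g
      change e g * e y = e y * e g
      rw [← map_mul, ← map_mul, mem_center_iff.1 hy g]
    · intro h
      refine ⟨e.symm x, mem_center_iff.2 fun g => ?_, e.apply_symm_apply x⟩
      apply e.injective
      rw [map_mul, map_mul, e.apply_symm_apply]
      exact h (e g)
  refine ⟨SignalizersComponents.Components.isQuasisimple_of_mulEquiv e hq, Or.inr (Or.inr ⟨?_, n, hn, hn', ?_⟩)⟩
  · rw [← hcen, Subgroup.card_map_of_injective e.injective, hc]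
  · exact ⟨(QuotientGroup.congr (center C) (center X) e hcen).symm.trans f⟩

/-- **A group whose involution centraliser is a double cover `2.A_n`, `7 ≤ n ≤ 11`, has a `B₂`-group in `L₂`.** -/
theorem lpExists_of_mt {n : ℕ} (hn : 7 ≤ n) (hn' : n ≤ 11) {G : Type u} [Group G] [Finite G] (L : MT n G) :
    LpExists 2 G InBTwo := by
  set C := centralizer ({L.t} : Set G) with hC
  have hq : IsQuasisimple C := quasisimple_of_cover (by omega) L.K
  have hO : pPrimeCore 2 ↥C = ⊥ := by
    have hcop := Lib.Cores.pPrimeCore_coprime (G := ↥C) 2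
    have hodd : Odd (Nat.card (pPrimeCore 2 ↥C)) := Nat.coprime_two_right.1 hcop
    have hcc : Nat.card (center ↥C) = 2 := card_center L.K (by omega)
    rcases SignalizersComponents.Components.quasisimple_normal hq _ (Lib.Cores.pPrimeCore_normal (G := ↥C) 2)
      with h | h
    · exfalso
      have h1 : Nat.card (center ↥C) ∣ Nat.card (pPrimeCore 2 ↥C) := by
        rw [h]
        exact card_dvd_of_le le_top
      rw [hcc] at h1
      exact (Nat.not_even_iff_odd.2 hodd) (even_iff_two_dvd.2 h1)
    · have h1 : Nat.card (pPrimeCore 2 ↥C) ∣ 2 := by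
        have h0 := card_dvd_of_le h
        rwa [hcc] at h0
      rcases (Nat.dvd_prime Nat.prime_two).1 h1 with h2 | h2
      · exact (Subgroup.card_eq_one).1 h2
      · rw [h2] at hodd
        exact absurd hodd (by decide)
  refine ⟨L.t, L.orderOf_t, ⊤, ⟨?_, ?_⟩, ?_⟩
  · exact Subgroup.IsSubnormal.top
  · exact SignalizersComponents.Components.isQuasisimple_of_mulEquiv
      (((QuotientGroup.quotientMulEquivOfEq hO).trans (QuotientGroup.quotientBot)).symm.trans
        Subgroup.topEquiv.symm) hq
  · exact inBTwo_of_cover hn hn' L.K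
      (((QuotientGroup.quotientMulEquivOfEq hO).trans (QuotientGroup.quotientBot)).symm.trans
        Subgroup.topEquiv.symm)

end Cfsg.Agent.SevenLow.DoubleCover
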