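import Cfsg.Agent.SevenLow.Base
import Cfsg.Agent.MTwelveType.SylowModel
import Cfsg.Agent.FastGrp
import Cfsg.Agent.Prune
set_option linter.all false
prune_inst 0x7f00000000000000000000000000000000000000000000000000000000000000000000000000000000000000000000000000000000000000000000000000000000000000000000000000000000000000003fffffffffffffffffffffffffffbeffbdffffffff
open scoped Cfsg.Agent.FastGrp

/-!
# The Mathieu group of degree 12 has 2-rank at most 3 (helper89)
-/

set_option autoImplicit false

namespace Cfsg.Agent.SevenLow.MTwelve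

open Cfsg Cfsg.Agent.ClassificationK.GTwoModel Cfsg.Agent.ClassificationK.GTwoModel.T

/-- decidable equality of the model -/
instance instDecEqT4 : DecidableEq (T (2 * 2)) := fun x y =>
  decidable_of_iff (x.i = y.i ∧ x.j = y.j ∧ x.e = y.e ∧ x.d = y.d) (by rw [T.ext_iff])

/-- the model is a finite type -/
instance instFinT4 : Fintype (T (2 * 2)) :=
  @Fintype.ofEquiv _ _ (inferInstanceAs (Fintype ((ZMod 4 × ZMod 4) × (Bool × Bool)))) (equivProd (2 * 2)).symm

/-- the elements of order at most 2 with `e = d = false` -/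
def O4 : Finset (T (2 * 2)) := {⟨0, 0, false, false⟩, ⟨2, 0, false, false⟩, ⟨0, 2, false, false⟩, ⟨2, 2, false, false⟩}

/-- `{1, z}` -/
def O2 : Finset (T (2 * 2)) := {⟨0, 0, false, false⟩, ⟨2, 2, false, false⟩}

theorem mem_O4 : ∀ x : T (2 * 2), x * x = 1 → x.e = false → x.d = false → x ∈ O4 := by decide +kernel

theorem mem_O2 : ∀ x : T (2 * 2), x * x = 1 → x.e = false → x.d = false →
    ∀ y : T (2 * 2), y.d = true → x * y = y * x → x ∈ O2 := by decide +kernel

theorem inv_mul_e : ∀ x y : T (2 * 2), x.e = y.e → x.d = y.d → (x⁻¹ * y).e = false ∧ (x⁻¹ * y).d = false := by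
  decide +kernel

theorem rank : PRankLE 2 3 (T (2 * 2)) := by
  intro A hA hp
  have hc : ∀ a ∈ A, ∀ b ∈ A, a * b = b * a := fun a ha b hb => by
    have := hA.is_comm.comm (⟨a, ha⟩ : A) ⟨b, hb⟩
    exact congrArg Subtype.val this
  have hs : ∀ a ∈ A, a * a = 1 := fun a ha => (pow_two a).symm.trans (hp a ha)
  classical
  let s : Finset (T (2 * 2)) := Finset.univ.filter fun x => x ∈ A
  have hms : ∀ x, x ∈ s ↔ x ∈ A := fun x => by simp [s]
  have hcard : Nat.card A = s.card := by
    rw [Nat.card_eq_fintype_card, Fintype.card_subtype]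
  rw [hcard]
  by_cases hd : ∃ y ∈ A, y.d = true
  · obtain ⟨y, hy, hyd⟩ := hd
    have h1 := Finset.card_le_mul_card_image (f := fun x : T (2 * 2) => (x.e, x.d)) s 2 (by
      intro b hb
      obtain ⟨x0, hx0, rfl⟩ := Finset.mem_image.mp hb
      have h2 : (s.filter fun x => (x.e, x.d) = (x0.e, x0.d)) ⊆ O2.image (fun o => x0 * o) := by
        intro x hx
        obtain ⟨hxs, hxe⟩ := Finset.mem_filter.mp hx
        rw [hms] at hxs hx0
        have h3 := inv_mul_e x0 x (by simpa using (congrArg Prod.fst hxe).symm)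
          (by simpa using (congrArg Prod.snd hxe).symm)
        have h4 : x0⁻¹ * x ∈ A := A.mul_mem (A.inv_mem hx0) hxs
        refine Finset.mem_image.mpr ⟨x0⁻¹ * x, mem_O2 _ (hs _ h4) h3.1 h3.2 y hyd (hc _ h4 _ hy), ?_⟩
        group
      exact (Finset.card_le_card h2).trans (Finset.card_image_le.trans (by decide)))
    have h5 : (s.image fun x : T (2 * 2) => (x.e, x.d)).card ≤ 4 :=
      (Finset.card_le_univ _).trans (by decide)
    omega
  · push Not at hd
    have h1 := Finset.card_le_mul_card_image (f := fun x : T (2 * 2) => x.e) s 4 (by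
      intro b hb
      obtain ⟨x0, hx0, rfl⟩ := Finset.mem_image.mp hb
      have h2 : (s.filter fun x => x.e = x0.e) ⊆ O4.image (fun o => x0 * o) := by
        intro x hx
        obtain ⟨hxs, hxe⟩ := Finset.mem_filter.mp hx
        rw [hms] at hxs hx0
        have hxd : x.d = x0.d := by
          have e1 : x.d = false := by simpa using hd x hxs
          have e2 : x0.d = false := by simpa using hd x0 hx0
          rw [e1, e2]
        have h3 := inv_mul_e x0 x hxe.symm hxd.symm
        have h4 : x0⁻¹ * x ∈ A := A.mul_mem (A.inv_mem hx0) hxs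
        refine Finset.mem_image.mpr ⟨x0⁻¹ * x, mem_O4 _ (hs _ h4) h3.1 h3.2, ?_⟩
        group
      exact (Finset.card_le_card h2).trans (Finset.card_image_le.trans (by decide)))
    have h5 : (s.image fun x : T (2 * 2) => x.e).card ≤ 2 :=
      (Finset.card_le_univ _).trans (by decide)
    omega

/-- **2-rank at most 3** -/
theorem low {G : Type*} [Group G] (h : Spor.IsoM12 G) : PRankLE 2 3 G := by
  obtain ⟨e⟩ := h
  refine prankLE_congr e ?_
  have hf : Finite ↥Spor.M12 := Nat.finite_of_card_ne_zero (by
    rw [MTwelveType.SylowModel.card_M12]; norm_num)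
  let P : Sylow 2 ↥Spor.M12 := default
  obtain ⟨f⟩ := MTwelveType.SylowModel.exists_equiv P
  exact prankLE_of_sylow P (prankLE_congr f.symm rank)

end Cfsg.Agent.SevenLow.MTwelve
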